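import Groth.Agent.CIntCodim.Basic
import Groth.Agent.CurveDVR.Stalk
import Groth.Agent.NilFree.Basic
import Groth.Agent.RegLoc.Basic
import Groth.Agent.FlatMor.DimOne
import Groth.Agent.PurLib.Factorial
import Groth.Agent.Depth.Local

/-! # Relative codimension: Cohen-Macaulay and smooth morphisms -/

set_option autoImplicit false
set_option linter.style.haveILetI false

universe u

open CategoryTheory CategoryTheory.Limits AlgebraicGeometry IsLocalRing TopologicalSpace Topology

namespace Groth.Agent.CIntCodim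

theorem depth_le_dim (R : Type u) [CommRing R] [IsLocalRing R] [IsNoetherianRing R] :
    ((LocCoh.depth R R : ℕ∞) : WithBot ℕ∞) ≤ ringKrullDim R := by
  rw [← Module.supportDim_self_eq_ringKrullDim]
  exact Depth.depth_le_supportDim

theorem natCast_le_depth {X S : Scheme.{u}} [IsLocallyNoetherian X] [IsLocallyNoetherian S] (f : X ⟶ S)
    [Flat f] (hCM : ∀ x : X, LocCoh.IsCohenMacaulayLocalRing (CInt.fiberStalk f x)) (x : X) {d : ℕ}
    (h : (d : WithBot ℕ∞) ≤ ringKrullDim (CInt.fiberStalk f x)) :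
    (d : ℕ∞) ≤ LocCoh.depth (X.presheaf.stalk x) (X.presheaf.stalk x) := by
  refine le_trans ?_ (depth_fiberStalk_le f x)
  rw [← Module.supportDim_self_eq_ringKrullDim, (hCM x).supportDim_eq_depth] at h
  exact_mod_cast h

theorem dim_le_depth {X S : Scheme.{u}} [IsLocallyNoetherian X] [IsLocallyNoetherian S] (f : X ⟶ S)
    [Flat f] (hCM : ∀ x : X, LocCoh.IsCohenMacaulayLocalRing (CInt.fiberStalk f x)) (x : X) :
    ringKrullDim (CInt.fiberStalk f x) ≤
      ((LocCoh.depth (X.presheaf.stalk x) (X.presheaf.stalk x) : ℕ∞) : WithBot ℕ∞) := by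
  rw [← Module.supportDim_self_eq_ringKrullDim, (hCM x).supportDim_eq_depth]
  exact_mod_cast depth_fiberStalk_le f x

/-- The fibres of a smooth morphism have regular local rings. -/
theorem isRegularLocalRing_fiberStalk {X S : Scheme.{u}} (f : X ⟶ S) [Smooth f] (x : X) :
    IsRegularLocalRing (CInt.fiberStalk f x) := by
  have h : Smooth (f.fiberToSpecResidueField (f x)) :=
    MorphismProperty.pullback_snd (P := @Smooth) _ _ inferInstance
  exact @CurveDVR.isRegularLocalRing_stalk (S.residueField (f x)) _ (f.fiber (f x))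
    (f.fiberToSpecResidueField (f x)) h (f.asFiber x)

theorem exists_finset_ker {X Y S : Scheme.{u}} [IsLocallyNoetherian X] (f : X ⟶ S) [Smooth f]
    (i : Y ⟶ X) [IsClosedImmersion i] [Smooth (i ≫ f)] (y : Y) :
    ∃ s : Finset (X.presheaf.stalk (i y)),
      Ideal.span (s : Set (X.presheaf.stalk (i y))) = RingHom.ker (i.stalkMap y).hom ∧
        (s.card : WithBot ℕ∞) ≤ ringKrullDim (CInt.fiberStalk f (i y)) := by
  classical
  haveI : IsLocallyNoetherian Y := LocallyOfFiniteType.isLocallyNoetherian i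
  let F := S.presheaf.stalk (f (i y))
  let O := X.presheaf.stalk (i y)
  let P := Y.presheaf.stalk y
  let φ : O →+* P := (i.stalkMap y).hom
  let J : Ideal O := RingHom.ker φ
  let a : Ideal O := (maximalIdeal F).map (f.stalkMap (i y)).hom
  have hcomp : ((i ≫ f).stalkMap y).hom = φ.comp (f.stalkMap (i y)).hom := by
    rw [Scheme.Hom.stalkMap_comp]; rfl
  obtain ⟨eX⟩ := FlatMor.FibreStalk.exists_fibre_stalk_equiv f (i y)
  obtain ⟨eY⟩ := FlatMor.FibreStalk.exists_fibre_stalk_equiv (i ≫ f) y
  haveI := isRegularLocalRing_fiberStalk f (i y)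
  haveI := isRegularLocalRing_fiberStalk (i ≫ f) y
  haveI hR : IsRegularLocalRing (O ⧸ a) := IsRegularLocalRing.of_ringEquiv eX.symm
  have hRb : IsRegularLocalRing ((O ⧸ a) ⧸ J.map (Ideal.Quotient.mk a)) := by
    haveI : IsRegularLocalRing (P ⧸ a.map φ) := by
      have h := IsRegularLocalRing.of_ringEquiv eY.symm
      have ha : a.map φ = (maximalIdeal F).map ((i ≫ f).stalkMap y).hom := by
        show (Ideal.map (f.stalkMap (i y)).hom (maximalIdeal F)).map φ = _
        rw [Ideal.map_map, hcomp]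
        rfl
      rw [ha]
      exact h
    exact IsRegularLocalRing.of_ringEquiv
      ((Ideal.quotientEquiv (a.map (Ideal.Quotient.mk J)) (a.map φ)
        (RingHom.quotientKerEquivOfSurjective (i.stalkMap_surjective y)) (by rw [Ideal.map_map (Ideal.Quotient.mk J)]; rfl)).symm.trans
        ((DoubleQuot.quotQuotEquivQuotSup J a).trans ((Ideal.quotEquivOfEq (sup_comm J a)).trans
          (DoubleQuot.quotQuotEquivQuotSup a J).symm)))
  obtain ⟨n, hn, -⟩ := RegLoc.exists_natCast_eq_ringKrullDim (O ⧸ a)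
  obtain ⟨s, t, hs, -, hcard⟩ := RegLoc.exists_finset_span_eq_of_quotient hn (J.map (Ideal.Quotient.mk a))
  have hlift : ∀ b ∈ s, ∃ c ∈ J, Ideal.Quotient.mk a c = b := fun b hb =>
    (Ideal.mem_map_iff_of_surjective _ Ideal.Quotient.mk_surjective).1 (hs ▸ Ideal.subset_span hb)
  choose! g hgJ hg using hlift
  refine ⟨s.image g, ?_, ?_⟩
  · have hle : Ideal.span (s.image g : Set O) ≤ J := Ideal.span_le.2 fun c hc => by
      obtain ⟨b, hb, rfl⟩ := Finset.mem_image.1 (Finset.mem_coe.1 hc)
      exact hgJ b hb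
    refine le_antisymm hle (Submodule.le_of_le_smul_of_le_jacobson_bot (IsNoetherian.noetherian J)
      (I := a) ?_ fun x hx => ?_)
    · exact (map_maximalIdeal_le (f.stalkMap (i y)).hom).trans (maximalIdeal_le_jacobson _)
    have hxs : Ideal.Quotient.mk a x ∈ (Ideal.span (s.image g : Set O)).map (Ideal.Quotient.mk a) := by
      refine (le_of_eq ?_ : J.map (Ideal.Quotient.mk a) ≤ _) (Ideal.mem_map_of_mem _ hx)
      rw [← hs, Ideal.map_span, Finset.coe_image, ← Set.image_comp]
      congr 1
      refine (Set.EqOn.image_eq_self fun b hb => ?_).symm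
      exact hg b hb
    obtain ⟨c, hc, hcx⟩ := (Ideal.mem_map_iff_of_surjective _ Ideal.Quotient.mk_surjective).1 hxs
    have hxa : x - c ∈ a := Ideal.Quotient.eq.1 hcx.symm
    refine Submodule.mem_sup.2 ⟨c, hc, x - c, ?_, by ring⟩
    letI := (f.stalkMap (i y)).hom.toAlgebra
    letI := (φ.comp (f.stalkMap (i y)).hom).toAlgebra
    haveI : Module.Flat F P := by
      have h : ((i ≫ f).stalkMap y).hom.Flat := Flat.stalkMap (i ≫ f) y
      rw [hcomp] at h
      exact h
    let ψ : O →ₗ[F] P :=
      { toFun := φ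
        map_add' := map_add φ
        map_smul' := fun c b => map_mul φ _ _ }
    have hmem : x - c ∈ LinearMap.ker ψ ⊓ maximalIdeal F • (⊤ : Submodule F O) := by
      refine ⟨?_, ?_⟩
      · show φ (x - c) = 0
        exact RingHom.mem_ker.1 (J.sub_mem hx (hle hc))
      · rw [Ideal.smul_top_eq_map]
        exact hxa
    have := NilFree.inf_smul_top_le_smul_of_flat ψ (i.stalkMap_surjective y) (maximalIdeal F) hmem
    refine Submodule.smul_induction_on this (fun r hr w hw => ?_) fun _ _ h1 h2 => add_mem h1 h2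
    show (f.stalkMap (i y)).hom r * w ∈ a * J
    exact Ideal.mul_mem_mul (Ideal.mem_map_of_mem _ hr) hw
  · have hd : ringKrullDim (CInt.fiberStalk f (i y)) = n := by
      rw [← hn]; exact (ringKrullDim_eq_of_ringEquiv eX).symm
    rw [hd, Nat.cast_le]
    exact Finset.card_image_le.trans (by omega)

theorem exists_dim_stalk_le_fiber {X Y S : Scheme.{u}} [IsLocallyNoetherian X] (f : X ⟶ S) [Smooth f]
    (i : Y ⟶ X) [IsClosedImmersion i] [Smooth (i ≫ f)] (y : Y) :
    ∃ z : Y, ringKrullDim (X.presheaf.stalk (i z)) ≤ ringKrullDim (CInt.fiberStalk f (i y)) := by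
  obtain ⟨s, hker, hcard⟩ := exists_finset_ker f i y
  have hC := irreducibleComponent_mem_irreducibleComponents y
  obtain ⟨z, hz⟩ := QuasiSober.sober hC.1 (isClosed_of_mem_irreducibleComponents _ hC)
  have hzy : z ⤳ y := hz.specializes mem_irreducibleComponent
  have hmax : ∀ b : Y, b ⤳ z → b = z := fun b hb => by
    have hle : irreducibleComponent y ⊆ closure {b} := by
      rw [← hz.def]; exact closure_minimal (Set.singleton_subset_iff.2 hb.mem_closure) isClosed_closure
    refine (hb.antisymm (specializes_iff_mem_closure.2 ?_)).eq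
    rw [hz.def]
    exact hC.2 isIrreducible_singleton.closure hle (subset_closure rfl)
  refine ⟨z, le_trans ?_ hcard⟩
  obtain ⟨q, hq⟩ : z ∈ Set.range (Y.fromSpecStalk y) := by rw [Scheme.range_fromSpecStalk]; exact hzy
  have hqmin : q.asIdeal ∈ minimalPrimes (Y.presheaf.stalk y) := by
    rw [← PrimeSpectrum.isMin_iff]
    intro r hr
    have h1 : Y.fromSpecStalk y r ⤳ z :=
      hq ▸ ((PrimeSpectrum.le_iff_specializes _ _).mp hr).map (Y.fromSpecStalk y).continuous
    exact le_of_eq ((Y.fromSpecStalk y).isEmbedding.injective ((hmax _ h1).trans hq.symm)).symm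
  let P : PrimeSpectrum (X.presheaf.stalk (i y)) := PrimeSpectrum.comap (i.stalkMap y).hom q
  have hPmin : P.asIdeal ∈ (Ideal.span (s : Set (X.presheaf.stalk (i y)))).minimalPrimes := by
    rw [hker, RingHom.ker_eq_comap_bot, Ideal.comap_minimalPrimes_eq_of_surjective (i.stalkMap_surjective y)]
    exact ⟨q.asIdeal, hqmin, rfl⟩
  have hiz : i z = X.fromSpecStalk (i y) P := by
    rw [← hq, FlatMor.DimOne.apply_fromSpecStalk]
    rfl
  rw [hiz, ← PurLib.height_eq_ringKrullDim_stalk (i y) P]
  exact_mod_cast Ideal.height_le_card_of_mem_minimalPrimes_span_finset hPmin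

end Groth.Agent.CIntCodim
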