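import Groth.Agent.DimOpen.Basic
import Groth.Agent.EGA4Lib.DepthFlat
import Groth.Agent.EGA4Lib.Fibers
import Groth.Prelude.Def_CInt
import Mathlib.AlgebraicGeometry.Morphisms.Flat

/-! # Codimension and depth relative to a morphism -/

set_option autoImplicit false
set_option linter.style.haveILetI false

universe u

open CategoryTheory CategoryTheory.Limits AlgebraicGeometry IsLocalRing TopologicalSpace Topology

namespace Groth.Agent.CIntCodim

variable {X Y S : Scheme.{u}}

instance isNoetherianRing_fibre_stalk [IsLocallyNoetherian X] (f : X ⟶ S) (s : S) (w : f.fiber s) :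
    IsNoetherianRing ((f.fiber s).presheaf.stalk w) :=
  isNoetherianRing_of_surjective _ _ ((f.fiberι s).stalkMap w).hom ((f.fiberι s).stalkMap_surjective w)

theorem dim_fiberStalk_eq (f : X ⟶ S) {s : S} (w : f.fiber s) :
    ringKrullDim ((f.fiber s).presheaf.stalk w) = ringKrullDim (CInt.fiberStalk f (f.fiberι s w)) := by
  suffices ∀ (x : X) (s : S) (w : f.fiber s), f.fiberι s w = x →
      ringKrullDim ((f.fiber s).presheaf.stalk w) = ringKrullDim (CInt.fiberStalk f x) from
    this _ s w rfl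
  intro x s w hw
  obtain rfl : f x = s := by
    rw [← hw]
    exact (f.range_fiberι s).le (Set.mem_range_self w)
  obtain rfl : w = f.asFiber x :=
    (f.fiberι (f x)).isEmbedding.injective (hw.trans (f.fiberι_asFiber x).symm)
  rfl

theorem dim_fiberStalk_le (f : X ⟶ S) (x : X) :
    ringKrullDim (CInt.fiberStalk f x) ≤ ringKrullDim (X.presheaf.stalk x) := by
  rw [DimOpen.ringKrullDim_fibre_stalk]
  exact ringKrullDim_le_of_surjective (Ideal.Quotient.mk _) Ideal.Quotient.mk_surjective

/-- A flat morphism does not lower dimensions of local rings. -/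
theorem dim_stalk_le_of_flat (h : X ⟶ Y) [Flat h] (z : X) [IsNoetherianRing (X.presheaf.stalk z)]
    [IsNoetherianRing (Y.presheaf.stalk (h z))] :
    ringKrullDim (Y.presheaf.stalk (h z)) ≤ ringKrullDim (X.presheaf.stalk z) := by
  algebraize [(h.stalkMap z).hom]
  haveI : IsLocalHom (algebraMap (Y.presheaf.stalk (h z)) (X.presheaf.stalk z)) :=
    inferInstanceAs (IsLocalHom (h.stalkMap z).hom)
  haveI : Module.Flat (Y.presheaf.stalk (h z)) (X.presheaf.stalk z) := Flat.stalkMap h z
  haveI : Nontrivial (X.presheaf.stalk z ⧸ (maximalIdeal (Y.presheaf.stalk (h z))).map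
      (algebraMap (Y.presheaf.stalk (h z)) (X.presheaf.stalk z))) :=
    Ideal.Quotient.nontrivial_iff.2 (ne_top_of_le_ne_top Ideal.IsPrime.ne_top' (map_maximalIdeal_le _))
  rw [Dim.ringKrullDim_eq_add_fibre (Y.presheaf.stalk (h z)) (X.presheaf.stalk z)]
  exact le_add_of_nonneg_right ringKrullDim_nonneg_of_nontrivial

/-- Above every point of the image there is a point whose local ring has at most the same dimension. -/
theorem exists_dim_stalk_le (h : X ⟶ Y) (hN : ∀ z : X, IsNoetherianRing (X.presheaf.stalk z))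
    (hM : ∀ w : Y, IsNoetherianRing (Y.presheaf.stalk w)) (z₀ : X) :
    ∃ z : X, h z = h z₀ ∧ ringKrullDim (X.presheaf.stalk z) ≤ ringKrullDim (Y.presheaf.stalk (h z₀)) := by
  let F := h.fiber (h z₀)
  have hC := irreducibleComponent_mem_irreducibleComponents (h.asFiber z₀)
  obtain ⟨g, hg⟩ := QuasiSober.sober hC.1 (isClosed_of_mem_irreducibleComponents _ hC)
  have hmax : ∀ b : F, b ⤳ g → g ⤳ b := fun b hb => by
    have hle : irreducibleComponent (h.asFiber z₀) ⊆ closure {b} := by
      rw [← hg.def]; exact closure_minimal (Set.singleton_subset_iff.2 hb.mem_closure) isClosed_closure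
    exact specializes_iff_mem_closure.2 (by
      rw [hg.def]
      exact hC.2 isIrreducible_singleton.closure hle (subset_closure rfl))
  have hdim : ringKrullDim (F.presheaf.stalk g) = 0 := by
    rw [ringKrullDim_stalk_eq_coheight, Order.coheight_eq_zero.2 (fun b hb => hmax b hb)]
    rfl
  refine ⟨h.fiberι _ g, (h.range_fiberι _).le (Set.mem_range_self g), ?_⟩
  have key : ∀ (x : X) (w : Y) (g : h.fiber w), h.fiberι w g = x →
      ringKrullDim ((h.fiber w).presheaf.stalk g) = 0 →
      ringKrullDim (X.presheaf.stalk x) ≤ ringKrullDim (Y.presheaf.stalk w) := by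
    intro x w g hx h0
    obtain rfl : h x = w := by rw [← hx]; exact (h.range_fiberι w).le (Set.mem_range_self g)
    obtain rfl : g = h.asFiber x :=
      (h.fiberι (h x)).isEmbedding.injective (hx.trans (h.fiberι_asFiber x).symm)
    haveI := hN x
    haveI := hM (h x)
    rw [DimOpen.ringKrullDim_fibre_stalk] at h0
    letI := (h.stalkMap x).hom.toAlgebra
    haveI : IsLocalHom (algebraMap (Y.presheaf.stalk (h x)) (X.presheaf.stalk x)) :=
      inferInstanceAs (IsLocalHom (h.stalkMap x).hom)
    have h1 := Dim.ringKrullDim_le_add_fibre (Y.presheaf.stalk (h x)) (X.presheaf.stalk x)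
    erw [h0, add_zero] at h1
    exact h1
  exact key _ _ g rfl hdim

section comp

variable (g : X ⟶ Y) (f : Y ⟶ S) (s : S)

theorem fiberMap_ι : CInt.fiberMap g f s ≫ f.fiberι s = (g ≫ f).fiberι s ≫ g :=
  pullback.lift_fst _ _ _

theorem isPullback_fiberMap :
    IsPullback (CInt.fiberMap g f s) ((g ≫ f).fiberι s) (f.fiberι s) g := by
  refine IsPullback.of_right ?_ (fiberMap_ι g f s) (IsPullback.of_hasPullback f (S.fromSpecResidueField s)).flip
  have h2 : CInt.fiberMap g f s ≫ pullback.snd f (S.fromSpecResidueField s) =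
      pullback.snd (g ≫ f) (S.fromSpecResidueField s) :=
    (pullback.lift_snd _ _ _).trans (Category.comp_id _)
  rw [h2]
  exact (IsPullback.of_hasPullback (g ≫ f) (S.fromSpecResidueField s)).flip

theorem dim_fiberStalk_le_comp [IsLocallyNoetherian X] [IsLocallyNoetherian Y] [Flat g] (x : X) :
    ringKrullDim (CInt.fiberStalk f (g x)) ≤ ringKrullDim (CInt.fiberStalk (g ≫ f) x) := by
  haveI : Flat (CInt.fiberMap g f ((g ≫ f) x)) :=
    MorphismProperty.of_isPullback (P := @Flat) (isPullback_fiberMap g f _).flip ‹_›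
  have h := dim_stalk_le_of_flat (CInt.fiberMap g f ((g ≫ f) x)) ((g ≫ f).asFiber x)
  rw [dim_fiberStalk_eq] at h
  have hp : f.fiberι _ (CInt.fiberMap g f ((g ≫ f) x) ((g ≫ f).asFiber x)) = g x := by
    rw [← Scheme.Hom.comp_apply, fiberMap_ι, Scheme.Hom.comp_apply, Scheme.Hom.fiberι_asFiber]
  rw [hp] at h
  exact h

theorem exists_dim_fiberStalk_comp_le [IsLocallyNoetherian X] [IsLocallyNoetherian Y] [Surjective g]
    (y : Y) : ∃ x : X, g x = y ∧ ringKrullDim (CInt.fiberStalk (g ≫ f) x) ≤ ringKrullDim (CInt.fiberStalk f y) := by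
  haveI : Surjective (CInt.fiberMap g f (f y)) :=
    MorphismProperty.of_isPullback (P := @Surjective) (isPullback_fiberMap g f (f y)).flip ‹_›
  obtain ⟨z₀, hz₀⟩ := (CInt.fiberMap g f (f y)).surjective (f.asFiber y)
  obtain ⟨z, hz, hle⟩ := exists_dim_stalk_le (CInt.fiberMap g f (f y))
    (fun z => isNoetherianRing_fibre_stalk _ _ z) (fun w => isNoetherianRing_fibre_stalk _ _ w) z₀
  rw [hz₀] at hz hle
  refine ⟨(g ≫ f).fiberι (f y) z, ?_, ?_⟩
  · rw [← Scheme.Hom.comp_apply, ← fiberMap_ι, Scheme.Hom.comp_apply, hz, Scheme.Hom.fiberι_asFiber]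
  · rw [← dim_fiberStalk_eq]
    exact hle

end comp

section baseChange

variable {S' X' : Scheme.{u}} {f : X ⟶ S} {g : S' ⟶ S} {f' : X' ⟶ S'} {g' : X' ⟶ X}
  (hc : IsPullback g' f' f g)

include hc in
/-- The fibre upstairs is flat over the fibre downstairs. -/
theorem exists_flat_fibre_map (s' : S') :
    ∃ h : f'.fiber s' ⟶ f.fiber (g s'), Flat h ∧ h ≫ f.fiberι (g s') = f'.fiberι s' ≫ g' := by
  let k := Spec.map (g.residueFieldMap s')
  have hk : k ≫ S.fromSpecResidueField (g s') = S'.fromSpecResidueField s' ≫ g :=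
    Scheme.Hom.SpecMap_residueFieldMap_fromSpecResidueField g s'
  let h : f'.fiber s' ⟶ f.fiber (g s') :=
    pullback.lift (f'.fiberι s' ≫ g') (f'.fiberToSpecResidueField s' ≫ k) (by
      rw [Category.assoc, hc.w, ← Category.assoc, f'.fiber_fac, Category.assoc, Category.assoc, hk])
  have hfst : h ≫ f.fiberι (g s') = f'.fiberι s' ≫ g' := pullback.lift_fst _ _ _
  have hsnd : h ≫ f.fiberToSpecResidueField (g s') = f'.fiberToSpecResidueField s' ≫ k :=
    pullback.lift_snd _ _ _
  have h1 : IsPullback (f'.fiberToSpecResidueField s') (f'.fiberι s' ≫ g')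
      (k ≫ S.fromSpecResidueField (g s')) f := by
    rw [hk]
    exact ((IsPullback.of_hasPullback f' (S'.fromSpecResidueField s')).paste_horiz hc).flip
  have h2 : IsPullback (f'.fiberToSpecResidueField s') h k (f.fiberToSpecResidueField (g s')) := by
    refine IsPullback.of_bot ?_ hsnd.symm (IsPullback.of_hasPullback f (S.fromSpecResidueField (g s'))).flip
    exact hfst.symm ▸ h1
  have : Flat k := by
    rw [HasRingHomProperty.Spec_iff (P := @Flat)]
    algebraize [(g.residueFieldMap s').hom]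
    exact inferInstanceAs (Module.Flat (S.residueField (g s')) (S'.residueField s'))
  exact ⟨h, MorphismProperty.of_isPullback (P := @Flat) h2 ‹Flat k›, hfst⟩

include hc in
theorem dim_fiberStalk_le_baseChange [IsLocallyNoetherian X] [IsLocallyNoetherian X'] (x' : X') :
    ringKrullDim (CInt.fiberStalk f (g' x')) ≤ ringKrullDim (CInt.fiberStalk f' x') := by
  obtain ⟨h, hflat, hfst⟩ := exists_flat_fibre_map hc (f' x')
  have hle := dim_stalk_le_of_flat h (f'.asFiber x')
  rw [dim_fiberStalk_eq] at hle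
  rw [← Scheme.Hom.comp_apply, hfst, Scheme.Hom.comp_apply, Scheme.Hom.fiberι_asFiber] at hle
  exact hle

include hc in
theorem exists_dim_fiberStalk_baseChange_le [IsLocallyNoetherian X] [IsLocallyNoetherian X'] (x₀ : X') :
    ∃ x' : X', g' x' = g' x₀ ∧
      ringKrullDim (CInt.fiberStalk f' x') ≤ ringKrullDim (CInt.fiberStalk f (g' x₀)) := by
  obtain ⟨h, hflat, hfst⟩ := exists_flat_fibre_map hc (f' x₀)
  obtain ⟨z, hz, hle⟩ := exists_dim_stalk_le h (fun z => isNoetherianRing_fibre_stalk _ _ z)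
    (fun w => isNoetherianRing_fibre_stalk _ _ w) (f'.asFiber x₀)
  have hp : f.fiberι (g (f' x₀)) (h (f'.asFiber x₀)) = g' x₀ := by
    rw [← Scheme.Hom.comp_apply, hfst, Scheme.Hom.comp_apply, Scheme.Hom.fiberι_asFiber]
  refine ⟨f'.fiberι (f' x₀) z, ?_, ?_⟩
  · rw [← Scheme.Hom.comp_apply, ← hfst, Scheme.Hom.comp_apply, hz, hp]
  · rw [← dim_fiberStalk_eq, ← hp, ← dim_fiberStalk_eq]
    exact hle

end baseChange

open TensorProduct in
theorem depth_fiberStalk_le [IsLocallyNoetherian X] [IsLocallyNoetherian S] (f : X ⟶ S) [Flat f] (x : X) :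
    LocCoh.depth (CInt.fiberStalk f x) (CInt.fiberStalk f x) ≤
      LocCoh.depth (X.presheaf.stalk x) (X.presheaf.stalk x) := by
  obtain ⟨e⟩ := FlatMor.FibreStalk.exists_fibre_stalk_equiv f x
  algebraize [(f.stalkMap x).hom]
  haveI : IsLocalHom (algebraMap (S.presheaf.stalk (f x)) (X.presheaf.stalk x)) :=
    inferInstanceAs (IsLocalHom (f.stalkMap x).hom)
  haveI : Module.Flat (S.presheaf.stalk (f x)) (X.presheaf.stalk x) := Flat.stalkMap f x
  let J : Ideal (X.presheaf.stalk x) := (maximalIdeal (S.presheaf.stalk (f x))).map (algebraMap _ _)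
  haveI : Nontrivial (X.presheaf.stalk x ⧸ J) :=
    Ideal.Quotient.nontrivial_iff.2 (ne_top_of_le_ne_top Ideal.IsPrime.ne_top' (map_maximalIdeal_le _))
  haveI : IsLocalRing (X.presheaf.stalk x ⧸ J) :=
    IsLocalRing.of_surjective' (Ideal.Quotient.mk _) Ideal.Quotient.mk_surjective
  have e' : LocCoh.depth (CInt.fiberStalk f x) (CInt.fiberStalk f x) =
      LocCoh.depth (X.presheaf.stalk x ⧸ J) (X.presheaf.stalk x ⧸ J) :=
    (EGA4Lib.depth_supportDim_ringEquiv e).1.symm
  obtain ⟨h3, -⟩ := EGA4Lib.depth_supportDim_of_surjective (R := X.presheaf.stalk x)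
    (S := X.presheaf.stalk x ⧸ J) Ideal.Quotient.mk_surjective (X.presheaf.stalk x ⧸ J)
  have h := EGA4Lib.depth_tensor_of_flat (R := S.presheaf.stalk (f x)) (S := X.presheaf.stalk x)
    (N := X.presheaf.stalk x) (M := S.presheaf.stalk (f x))
  obtain ⟨h4, -⟩ := EGA4Lib.depth_supportDim_congr (L := X.presheaf.stalk x)
    (TensorProduct.AlgebraTensorModule.rid (S.presheaf.stalk (f x)) (X.presheaf.stalk x) (X.presheaf.stalk x))
  obtain ⟨h5, -⟩ := EGA4Lib.depth_supportDim_congr (L := X.presheaf.stalk x)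
    (Submodule.quotEquivOfEq (J • (⊤ : Submodule (X.presheaf.stalk x) (X.presheaf.stalk x))) J
      (by rw [smul_eq_mul, Ideal.mul_top]))
  rw [e', h3, ← h4, h, h5]
  exact le_add_self

end Groth.Agent.CIntCodim
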